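/-
The numerical function bounding the orders of nilpotent permutation groups.
-/
import Mathlib

set_option autoImplicit false

namespace CfsgLib.SymSylow.NilPerm

/-- The exponent of 2 in `n!`. -/
def twoExp (n : ℕ) : ℕ := n.factorial.factorization 2

/-- The bound. -/
def nilBound (n : ℕ) : ℕ := if n % 4 = 3 then 3 * 2 ^ twoExp (n - 3) else 2 ^ twoExp n

theorem twoExp_add_le (a b : ℕ) : twoExp a + twoExp b ≤ twoExp (a + b) := by
  have h := (Nat.factorization_le_iff_dvd
    (Nat.mul_ne_zero a.factorial_ne_zero b.factorial_ne_zero) (a + b).factorial_ne_zero).2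
    (Nat.factorial_mul_factorial_dvd_factorial_add a b) 2
  rwa [Nat.factorization_mul a.factorial_ne_zero b.factorial_ne_zero, Finsupp.add_apply] at h

theorem twoExp_mono {a b : ℕ} (h : a ≤ b) : twoExp a ≤ twoExp b := by
  obtain ⟨c, rfl⟩ := Nat.exists_eq_add_of_le h
  have := twoExp_add_le a c
  omega

theorem twoExp_succ (n : ℕ) : twoExp (n + 1) = (n + 1).factorization 2 + twoExp n := by
  rw [twoExp, Nat.factorial_succ, Nat.factorization_mul n.succ_ne_zero n.factorial_ne_zero, Finsupp.add_apply]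
  rfl

theorem twoExp_odd (m : ℕ) : twoExp (2 * m + 1) = twoExp (2 * m) := by
  rw [twoExp_succ, Nat.factorization_eq_zero_of_not_dvd (by omega), zero_add]

theorem twoExp_zero : twoExp 0 = 0 := by simp [twoExp]

theorem twoExp_one : twoExp 1 = 0 := by simp [twoExp]

theorem twoExp_even (m : ℕ) : twoExp (2 * m) = twoExp m + m := by
  induction m with
  | zero => simp [twoExp]
  | succ k ih =>
    have h2 : (2 * (k + 1)).factorization 2 = 1 + (k + 1).factorization 2 := by
      rw [Nat.factorization_mul (by norm_num) k.succ_ne_zero, Finsupp.add_apply,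
        Nat.Prime.factorization_self Nat.prime_two]
    rw [show 2 * (k + 1) = 2 * k + 1 + 1 by ring, twoExp_succ (2 * k + 1),
      show 2 * k + 1 + 1 = 2 * (k + 1) by ring, h2, twoExp_odd, ih, twoExp_succ k]
    ring

theorem twoExp_four_one (i : ℕ) : twoExp (4 * i + 1) = twoExp (4 * i) := by
  have := twoExp_odd (2 * i)
  rwa [show 2 * (2 * i) = 4 * i by ring] at this

theorem twoExp_four_two (i : ℕ) : twoExp (4 * i + 2) = twoExp (4 * i) + 1 := by
  have h1 := twoExp_even (2 * i + 1)
  have h2 := twoExp_odd i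
  have h3 := twoExp_even (2 * i)
  rw [show 2 * (2 * i + 1) = 4 * i + 2 by ring] at h1
  rw [show 2 * (2 * i) = 4 * i by ring] at h3
  omega

theorem twoExp_four_three (i : ℕ) : twoExp (4 * i + 3) = twoExp (4 * i) + 1 := by
  have := twoExp_odd (2 * i + 1)
  rw [show 2 * (2 * i + 1) = 4 * i + 2 by ring, twoExp_four_two] at this
  exact this

theorem twoExp_add_two (n : ℕ) : twoExp n + 1 ≤ twoExp (n + 2) := by
  have := twoExp_add_le n 2
  have : twoExp 2 = 1 := twoExp_four_two 0 |>.trans (by rw [Nat.mul_zero, twoExp_zero])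
  omega

theorem twoExp_four : twoExp 4 = 3 := by
  rw [show 4 = 2 * 2 from rfl, twoExp_even, show twoExp 2 = 1 from (twoExp_four_two 0).trans (by simp [twoExp_zero])]

/-- The exponent of `p` in `(p^a)!`. -/
def powExp (p : ℕ) : ℕ → ℕ
  | 0 => 0
  | a + 1 => p * powExp p a + 1

theorem powExp_succ' (p a : ℕ) : powExp p (a + 1) = powExp p a + p ^ a := by
  induction a with
  | zero => simp [powExp]
  | succ k ih =>
    have h2 : p * powExp p k + 1 = powExp p k + p ^ k := ih
    rw [powExp, ih, pow_succ, mul_add, mul_comm (p ^ k) p]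
    omega

theorem factorization_factorial_pow {p : ℕ} [hp : Fact p.Prime] (a : ℕ) :
    (p ^ a).factorial.factorization p = powExp p a := by
  induction a with
  | zero => simp [powExp]
  | succ k ih =>
    rw [pow_succ', Nat.factorization_def _ hp.out, padicValNat_factorial_mul, ← Nat.factorization_def _ hp.out,
      ih, powExp_succ']

theorem pow_two_le_nilBound (n : ℕ) : 2 ^ twoExp n ≤ nilBound n := by
  unfold nilBound
  split_ifs with h
  · obtain ⟨i, rfl⟩ : ∃ i, n = 4 * i + 3 := ⟨n / 4, by omega⟩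
    rw [twoExp_four_three, Nat.add_sub_cancel, pow_succ]
    omega
  · exact le_rfl

theorem nilBound_three (i : ℕ) : nilBound (4 * i + 3) = 3 * 2 ^ twoExp (4 * i) := by
  rw [nilBound, if_pos (by omega), Nat.add_sub_cancel]

theorem nilBound_other {n : ℕ} (h : n % 4 ≠ 3) : nilBound n = 2 ^ twoExp n := by rw [nilBound, if_neg h]

theorem nilBound_pos (n : ℕ) : 0 < nilBound n :=
  lt_of_lt_of_le (Nat.two_pow_pos _) (pow_two_le_nilBound n)

theorem nilBound_mul_le (a b : ℕ) : nilBound a * nilBound b ≤ nilBound (a + b) := by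
  have h3 : ∀ a b, a % 4 = 3 → nilBound a * nilBound b ≤ nilBound (a + b) := by
    intro a b ha
    obtain ⟨i, rfl⟩ : ∃ i, a = 4 * i + 3 := ⟨a / 4, by omega⟩
    obtain ⟨k, hk⟩ : ∃ k, b = 4 * k ∨ b = 4 * k + 1 ∨ b = 4 * k + 2 ∨ b = 4 * k + 3 := ⟨b / 4, by omega⟩
    have hik := twoExp_add_le (4 * i) (4 * k)
    have h4 := twoExp_add_le (4 * i + 4 * k) 4
    rw [twoExp_four] at h4
    have hq : 4 * (i + k + 1) = 4 * i + 4 * k + 4 := by ring
    have hp : ∀ {u v : ℕ}, u ≤ v → (2 : ℕ) ^ u ≤ 2 ^ v := fun h => Nat.pow_le_pow_right two_pos h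
    rw [nilBound_three]
    rcases hk with rfl | rfl | rfl | rfl
    · rw [nilBound_other (n := 4 * k) (by omega), show 4 * i + 3 + 4 * k = 4 * (i + k) + 3 by ring, nilBound_three,
        mul_assoc, ← pow_add]
      exact Nat.mul_le_mul_left 3 (hp (by rw [show 4 * (i + k) = 4 * i + 4 * k by ring]; exact hik))
    · rw [nilBound_other (n := 4 * k + 1) (by omega), show 4 * i + 3 + (4 * k + 1) = 4 * (i + k + 1) by ring,
        nilBound_other (by omega), twoExp_four_one, mul_assoc, ← pow_add]
      calc 3 * 2 ^ (twoExp (4 * i) + twoExp (4 * k)) ≤ 2 ^ 3 * 2 ^ (twoExp (4 * i) + twoExp (4 * k)) :=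
            Nat.mul_le_mul_right _ (by norm_num)
        _ ≤ _ := by rw [← pow_add]; exact hp (by rw [hq]; omega)
    · rw [nilBound_other (n := 4 * k + 2) (by omega), show 4 * i + 3 + (4 * k + 2) = 4 * (i + k + 1) + 1 by ring,
        nilBound_other (by omega), twoExp_four_one, twoExp_four_two, mul_assoc, ← pow_add]
      calc 3 * 2 ^ (twoExp (4 * i) + (twoExp (4 * k) + 1))
          = 6 * 2 ^ (twoExp (4 * i) + twoExp (4 * k)) := by rw [← add_assoc, pow_succ]; ring
        _ ≤ 2 ^ 3 * 2 ^ (twoExp (4 * i) + twoExp (4 * k)) := Nat.mul_le_mul_right _ (by norm_num)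
        _ ≤ _ := by rw [← pow_add]; exact hp (by rw [hq]; omega)
    · rw [nilBound_three, show 4 * i + 3 + (4 * k + 3) = 4 * (i + k + 1) + 2 by ring,
        nilBound_other (by omega), twoExp_four_two]
      calc 3 * 2 ^ twoExp (4 * i) * (3 * 2 ^ twoExp (4 * k))
          = 9 * 2 ^ (twoExp (4 * i) + twoExp (4 * k)) := by rw [pow_add]; ring
        _ ≤ 2 ^ 4 * 2 ^ (twoExp (4 * i) + twoExp (4 * k)) := Nat.mul_le_mul_right _ (by norm_num)
        _ ≤ _ := by rw [← pow_add]; exact hp (by rw [hq]; omega)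
  by_cases ha : a % 4 = 3
  · exact h3 a b ha
  by_cases hb : b % 4 = 3
  · rw [mul_comm, add_comm]; exact h3 b a hb
  rw [nilBound_other ha, nilBound_other hb, ← pow_add]
  exact (Nat.pow_le_pow_right two_pos (twoExp_add_le a b)).trans (pow_two_le_nilBound _)

theorem nilBound_pow_le (a p : ℕ) : nilBound a ^ p ≤ nilBound (p * a) := by
  induction p with
  | zero => rw [Nat.zero_mul, pow_zero]; exact nilBound_pos 0
  | succ k ih =>
    rw [pow_succ, Nat.succ_mul]
    exact (Nat.mul_le_mul_right _ ih).trans (nilBound_mul_le _ _)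

theorem nilBound_mono {a b : ℕ} (h : a ≤ b) : nilBound a ≤ nilBound b := by
  obtain ⟨c, rfl⟩ := Nat.exists_eq_add_of_le h
  exact (Nat.le_mul_of_pos_right _ (nilBound_pos c)).trans (nilBound_mul_le _ _)

theorem nilBound_two : nilBound 2 = 2 := by
  rw [nilBound_other (by norm_num), show twoExp 2 = 1 from (twoExp_four_two 0).trans (by simp [twoExp_zero])]
  rfl

theorem two_mul_nilBound {a b : ℕ} (h : a + 2 ≤ b) : 2 * nilBound a ≤ nilBound b := by
  rw [mul_comm, ← nilBound_two]
  exact (nilBound_mul_le a 2).trans (nilBound_mono h)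

theorem powExp_two (a : ℕ) : twoExp (2 ^ a) = powExp 2 a :=
  @factorization_factorial_pow 2 ⟨Nat.prime_two⟩ a

/-- Explicit small values. -/
theorem twoExp_small : twoExp 5 = 3 ∧ twoExp 6 = 4 ∧ twoExp 8 = 7 ∧ twoExp 9 = 7 ∧ twoExp 10 = 8 ∧
    twoExp 12 = 10 ∧ twoExp 14 = 11 ∧ twoExp 18 = 16 ∧ twoExp 25 = 22 ∧ twoExp 24 = 22 := by
  have e2 : twoExp 2 = 1 := (twoExp_four_two 0).trans (by simp [twoExp_zero])
  have e3 := twoExp_odd 1
  have e4 := twoExp_four
  have e5 := twoExp_odd 2
  have e6 := twoExp_even 3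
  have e7 := twoExp_odd 3
  have e8 := twoExp_even 4
  have e9 := twoExp_odd 4
  have e10 := twoExp_even 5
  have e12 := twoExp_even 6
  have e14 := twoExp_even 7
  have e18 := twoExp_even 9
  have e24 := twoExp_even 12
  have e25 := twoExp_odd 12
  norm_num at e3 e5 e6 e7 e8 e9 e10 e12 e14 e18 e24 e25
  omega

theorem twoExp_seven : twoExp 7 = 4 := by
  have := twoExp_four_three 1
  rw [twoExp_four] at this
  exact this

theorem two_mul_le_of_seven {n : ℕ} (h : 7 ≤ n) : 2 * n ≤ 2 ^ twoExp n := by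
  induction n using Nat.strong_induction_on with
  | _ n ih =>
    rcases Nat.lt_or_ge n 9 with h9 | h9
    · interval_cases n
      · rw [twoExp_seven]; norm_num
      · rw [twoExp_small.2.2.1]; norm_num
    · obtain ⟨m, rfl⟩ : ∃ m, n = m + 2 := ⟨n - 2, by omega⟩
      have := ih m (by omega) (by omega)
      calc 2 * (m + 2) ≤ 2 * 2 ^ twoExp m := by omega
        _ = 2 ^ (twoExp m + 1) := by ring
        _ ≤ _ := Nat.pow_le_pow_right two_pos (twoExp_add_two m)

/-- Odd prime powers other than 3, 5, 9 leave room for a factor 2. -/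
theorem two_mul_pow_le {p : ℕ} (hp : p.Prime) (h2 : p ≠ 2) :
    ∀ a : ℕ, 1 ≤ a → p ^ a ≠ 3 → p ^ a ≠ 5 → p ^ a ≠ 9 → 2 * p ^ powExp p a ≤ nilBound (p ^ a) := by
  have hp3 : 3 ≤ p := by
    have := hp.two_le
    omega
  intro a
  induction a with
  | zero => intro h; omega
  | succ k ih =>
    intro _ n3 n5 n9
    have hstep : 1 ≤ k → 2 * p ^ powExp p k ≤ nilBound (p ^ k) → 2 * p ^ powExp p (k + 1) ≤ nilBound (p ^ (k + 1)) := by
      intro _ h
      calc 2 * p ^ powExp p (k + 1) = (p ^ powExp p k) ^ p * (2 * p) := by rw [powExp, pow_succ, pow_mul']; ring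
        _ ≤ (p ^ powExp p k) ^ p * 2 ^ p := by
            refine Nat.mul_le_mul_left _ ?_
            obtain ⟨c, rfl⟩ := Nat.exists_eq_add_of_le hp3
            clear h ih n3 n5 n9 hp h2 hp3
            induction c with
            | zero => norm_num
            | succ c ihc =>
              rw [show 3 + (c + 1) = 3 + c + 1 by ring, pow_succ 2 (3 + c)]
              omega
        _ = (2 * p ^ powExp p k) ^ p := by ring
        _ ≤ nilBound (p ^ k) ^ p := Nat.pow_le_pow_left h p
        _ ≤ _ := by rw [pow_succ']; exact nilBound_pow_le _ _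
    rcases Nat.eq_zero_or_pos k with rfl | hk
    · simp only [powExp, zero_add, pow_one, mul_zero] at *
      have : 7 ≤ p := by
        by_contra hlt
        interval_cases p <;> simp_all (config := { decide := true })
      exact (two_mul_le_of_seven this).trans (pow_two_le_nilBound p)
    · by_cases hb : p ^ k = 3 ∨ p ^ k = 5 ∨ p ^ k = 9
      · obtain ⟨-, -, -, -, -, -, -, -, e25, e24⟩ := twoExp_small
        have hdvd : p ∣ p ^ k := dvd_pow_self p hk.ne'
        rcases hb with hb | hb | hb
        · rw [hb] at hdvd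
          obtain rfl : p = 3 := (Nat.prime_dvd_prime_iff_eq hp Nat.prime_three).1 hdvd
          exact absurd (by rw [pow_succ, hb]; norm_num) n9
        · rw [hb] at hdvd
          obtain rfl : p = 5 := (Nat.prime_dvd_prime_iff_eq hp Nat.prime_five).1 hdvd
          obtain rfl : k = 1 := Nat.pow_right_injective (show 2 ≤ 5 by norm_num) (hb.trans (pow_one 5).symm)
          rw [show powExp 5 (1 + 1) = 6 from rfl, show (5 : ℕ) ^ (1 + 1) = 25 by norm_num,
            nilBound_other (by norm_num), e25]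
          norm_num
        · rw [hb] at hdvd
          obtain rfl : p = 3 := by
            have : p ∣ 3 := hp.dvd_of_dvd_pow (n := 2) (by simpa using hdvd)
            exact (Nat.prime_dvd_prime_iff_eq hp Nat.prime_three).1 this
          obtain rfl : k = 2 := Nat.pow_right_injective (show 2 ≤ 3 by norm_num) (hb.trans (by norm_num))
          rw [show powExp 3 (2 + 1) = 13 from rfl, show (3 : ℕ) ^ (2 + 1) = 4 * 6 + 3 by norm_num,
            nilBound_three, show 4 * 6 = 24 by norm_num, e24]
          norm_num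
      · push Not at hb
        exact hstep hk (ih hk hb.1 hb.2.1 hb.2.2)

theorem pow_powExp_le {p : ℕ} (hp : p.Prime) (a : ℕ) : p ^ powExp p a ≤ nilBound (p ^ a) := by
  by_cases h2 : p = 2
  · subst h2
    rw [← powExp_two]
    exact pow_two_le_nilBound _
  rcases Nat.eq_zero_or_pos a with rfl | ha
  · simp only [powExp, pow_zero]; exact nilBound_pos 1
  by_cases h : p ^ a = 3 ∨ p ^ a = 5 ∨ p ^ a = 9
  · obtain ⟨e5, -, -, e9, -⟩ := twoExp_small
    have hdvd : p ∣ p ^ a := dvd_pow_self p ha.ne'
    rcases h with h | h | h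
    · rw [h] at hdvd
      obtain rfl : p = 3 := (Nat.prime_dvd_prime_iff_eq hp Nat.prime_three).1 hdvd
      obtain rfl : a = 1 := Nat.pow_right_injective (show 2 ≤ 3 by norm_num) (h.trans (pow_one 3).symm)
      rw [show powExp 3 1 = 1 from rfl, pow_one, show nilBound 3 = 3 from (nilBound_three 0).trans (by simp [twoExp_zero])]
    · rw [h] at hdvd
      obtain rfl : p = 5 := (Nat.prime_dvd_prime_iff_eq hp Nat.prime_five).1 hdvd
      obtain rfl : a = 1 := Nat.pow_right_injective (show 2 ≤ 5 by norm_num) (h.trans (pow_one 5).symm)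
      rw [show powExp 5 1 = 1 from rfl, pow_one, nilBound_other (by norm_num), e5]
      norm_num
    · rw [h] at hdvd
      obtain rfl : p = 3 := by
        have : p ∣ 3 := hp.dvd_of_dvd_pow (n := 2) (by simpa using hdvd)
        exact (Nat.prime_dvd_prime_iff_eq hp Nat.prime_three).1 this
      obtain rfl : a = 2 := Nat.pow_right_injective (show 2 ≤ 3 by norm_num) (h.trans (by norm_num))
      rw [show powExp 3 2 = 4 from rfl, show (3 : ℕ) ^ 2 = 9 by norm_num, nilBound_other (by norm_num), e9]
      norm_num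
  · push Not at h
    have := two_mul_pow_le hp h2 a ha h.1 h.2.1 h.2.2
    omega

end CfsgLib.SymSylow.NilPerm
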