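/-
Orders of nilpotent permutation groups.
-/
import Cfsg.Agent.Lib.SymSylow.NilpotentPerm.Arith
import Cfsg.Agent.Lib.OddLocal.Basic

set_option autoImplicit false

namespace CfsgLib.SymSylow.NilPerm

open Equiv Equiv.Perm

universe u

/-- A nilpotent transitive group splits a prime-power factor off the degree. -/
theorem transitive_split {α : Type u} [Fintype α] [DecidableEq α] (N : Subgroup (Perm α))
    (hN : Group.IsNilpotent N) (hT : ∀ x y : α, ∃ g ∈ N, g x = y) (x₀ : α) {p : ℕ} [hp : Fact p.Prime] :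
    ∃ (a : ℕ) (β : Type u) (_ : Fintype β) (_ : DecidableEq β) (M : Subgroup (Perm β)),
      Group.IsNilpotent M ∧ ¬ p ∣ Fintype.card β ∧ Fintype.card α = p ^ a * Fintype.card β ∧
      ∃ j, j ≤ powExp p a ∧ Nat.card N = p ^ j * Nat.card M := by
  classical
  haveI := hN
  let P : Sylow p N := default
  have hcop : (Nat.card (P : Subgroup N)).Coprime (P : Subgroup N).index := P.card_coprime_index
  obtain ⟨Q, hQ⟩ := Subgroup.exists_right_complement'_of_coprime hcop
  have hQcard : Nat.card Q = (P : Subgroup N).index := hQ.symm.index_eq_card.symm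
  have hpQ : ¬ p ∣ Nat.card Q := hQcard ▸ P.not_dvd_index
  have hcomm : ∀ q ∈ Q, ∀ u ∈ (P : Subgroup N), q * u = u * q := fun q hq u hu =>
    CfsgLib.OddLocal.commute_of_coprime_orderOf q u
      (Nat.Coprime.coprime_dvd_left (Subgroup.orderOf_dvd_natCard Q hq)
        (Nat.Coprime.coprime_dvd_right (Subgroup.orderOf_dvd_natCard _ hu) (hQcard ▸ hcop.symm)))
  let Pα : Subgroup (Perm α) := (P : Subgroup N).map N.subtype
  let Qα : Subgroup (Perm α) := Q.map N.subtype
  have hcommα : ∀ q ∈ Qα, ∀ u ∈ Pα, q * u = u * q := by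
    rintro _ ⟨q, hq, rfl⟩ _ ⟨u, hu, rfl⟩
    exact congrArg Subtype.val (hcomm q hq u hu)
  -- the orbits of the Sylow subgroup
  let st : Setoid α := MulAction.orbitRel Pα α
  let β := Quotient st
  have hrel : ∀ x y : α, st x y ↔ ∃ u ∈ Pα, u y = x := fun x y =>
    ⟨fun ⟨u, hu⟩ => ⟨u, u.2, hu⟩, fun ⟨u, hu, e⟩ => ⟨⟨u, hu⟩, e⟩⟩
  have hresp : ∀ q ∈ Qα, ∀ x y, st x y → st (q x) (q y) := by
    intro q hq x y hxy
    obtain ⟨u, hu, rfl⟩ := (hrel x y).1 hxy
    exact (hrel _ _).2 ⟨u, hu, (Equiv.congr_fun (hcommα q hq u hu) y).symm⟩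
  let φ : Qα →* Perm β := MonoidHom.mk'
    (fun q =>
      { toFun := Quotient.map' (fun x => (q : Perm α) x) (hresp q q.2)
        invFun := Quotient.map' (fun x => ((q : Perm α))⁻¹ x) (hresp _ (inv_mem q.2))
        left_inv := fun b => Quotient.inductionOn' b fun x => congrArg Quotient.mk'' (by simp)
        right_inv := fun b => Quotient.inductionOn' b fun x => congrArg Quotient.mk'' (by simp) })
    (fun q r => Equiv.ext fun b => Quotient.inductionOn' b fun _ => rfl)
  -- the decomposition of an element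
  have hdec : ∀ g ∈ N, ∃ u ∈ Pα, ∃ q ∈ Qα, g = u * q := by
    intro g hg
    obtain ⟨⟨u, q⟩, e⟩ := hQ.surjective ⟨g, hg⟩
    exact ⟨_, ⟨u, u.2, rfl⟩, _, ⟨q, q.2, rfl⟩, (congrArg Subtype.val e).symm⟩
  have horb : ∀ x y : α, ∃ u ∈ Pα, ∃ q ∈ Qα, u (q x) = y := by
    intro x y
    obtain ⟨g, hg, rfl⟩ := hT x y
    obtain ⟨u, hu, q, hq, rfl⟩ := hdec g hg
    exact ⟨u, hu, q, hq, rfl⟩
  -- `Q` acts faithfully on the orbits
  have hinj : Function.Injective φ := by
    rw [injective_iff_map_eq_one]
    rintro ⟨q, hq⟩ h1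
    refine Subtype.ext (Perm.ext fun x => ?_)
    obtain ⟨u, hu, hux⟩ := (hrel _ _).1 (Quotient.exact' (Equiv.congr_fun h1 (Quotient.mk'' x)))
    replace hux : u x = q x := hux
    have hc : Commute u q := (hcommα q hq u hu).symm
    have hpow : ∀ j : ℕ, (q ^ j) x = (u ^ j) x := by
      intro j
      induction j with
      | zero => rfl
      | succ j ih =>
        rw [pow_succ, Perm.mul_apply, ← hux]
        show (q ^ j) (u x) = _
        rw [show (q ^ j) (u x) = u ((q ^ j) x) from (Equiv.congr_fun ((hc.pow_right j).eq) x).symm, ih,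
          pow_succ', Perm.mul_apply]
    have h2 := hpow (orderOf q)
    rw [pow_orderOf_eq_one] at h2
    have hcop' : (orderOf u).Coprime (orderOf q) := by
      obtain ⟨u', hu', rfl⟩ := hu
      obtain ⟨q', hq', rfl⟩ := hq
      show (orderOf (u' : Perm α)).Coprime (orderOf (q' : Perm α))
      rw [Subgroup.orderOf_coe, Subgroup.orderOf_coe]
      exact Nat.Coprime.coprime_dvd_left (Subgroup.orderOf_dvd_natCard _ hu')
        (Nat.Coprime.coprime_dvd_right (Subgroup.orderOf_dvd_natCard Q hq') (hQcard ▸ hcop))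
    obtain ⟨m, hm⟩ : ∃ m : ℕ, (u ^ orderOf q) ^ m = u :=
      exists_pow_eq_self_of_coprime hcop'.symm
    have h3 : ∀ j : ℕ, ((u ^ orderOf q) ^ j) x = x := by
      intro j
      induction j with
      | zero => rfl
      | succ j ih => rw [pow_succ, Perm.mul_apply, ← h2, Perm.one_apply, ih]
    show q x = x
    rw [← hux]
    have := h3 m
    rwa [hm] at this
  -- `Q` is transitive on the orbits
  letI : MulAction Qα β :=
    { smul := fun q b => φ q b
      one_smul := fun b => by show φ 1 b = b; rw [map_one]; rfl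
      mul_smul := fun q r b => by show φ (q * r) b = _; rw [map_mul]; rfl }
  haveI : MulAction.IsPretransitive Qα β := ⟨fun b c => Quotient.inductionOn₂' b c fun x y => by
    obtain ⟨u, hu, q, hq, e⟩ := horb x y
    exact ⟨⟨q, hq⟩, Quotient.sound' ((hrel _ _).2 ⟨u⁻¹, inv_mem hu, by rw [← e]; simp⟩)⟩⟩
  haveI : Nonempty β := ⟨Quotient.mk'' x₀⟩
  have hkQ : Nat.card β ∣ Nat.card Qα := by
    have b₀ : β := Quotient.mk'' x₀
    rw [← Subgroup.index_mul_card (MulAction.stabilizer Qα b₀), MulAction.index_stabilizer_of_transitive Qα b₀]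
    exact dvd_mul_right _ _
  have hQα : Nat.card Qα = Nat.card Q := Subgroup.card_map_of_injective N.subtype_injective
  have hpβ : ¬ p ∣ Nat.card β := fun h => hpQ (hQα ▸ h.trans hkQ)
  -- all orbits have the same size
  let O := MulAction.orbit Pα x₀
  have hfib : ∀ b : β, Nat.card {x : α // Quotient.mk'' x = b} = Nat.card O := fun b =>
    Quotient.inductionOn' b fun y => by
      obtain ⟨u, hu, q, hq, hqy⟩ := horb x₀ y
      symm
      refine Nat.card_congr (Equiv.subtypeEquiv q fun x => ?_)
      have hy : st (q x₀) y := (hrel _ _).2 ⟨u⁻¹, inv_mem hu, by rw [← hqy]; simp⟩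
      constructor
      · intro hx
        have hx' : st x x₀ := hx
        exact Quotient.sound' (st.trans' (hresp q hq _ _ hx') hy)
      · intro hx
        have hx' : st (q x) (q x₀) := st.trans' (Quotient.exact' hx) (st.symm' hy)
        have h := hresp q⁻¹ (inv_mem hq) _ _ hx'
        simp only [Perm.coe_inv, Equiv.symm_apply_apply] at h
        exact h
  have hcardα : Fintype.card α = Nat.card O * Nat.card β := by
    rw [← Nat.card_eq_fintype_card, Nat.card_congr (Equiv.sigmaFiberEquiv (fun x : α => (Quotient.mk'' x : β))).symm,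
      Nat.card_sigma, Finset.sum_congr rfl fun b _ => hfib b, Finset.sum_const, Finset.card_univ, smul_eq_mul,
      Nat.card_eq_fintype_card (α := β), mul_comm]
  obtain ⟨a, ha⟩ := (P.isPGroup'.map N.subtype).card_orbit x₀
  -- faithfulness on one orbit
  let ψ : Pα →* Perm O := MulAction.toPermHom Pα O
  have hψ : Function.Injective ψ := by
    rw [injective_iff_map_eq_one]
    rintro ⟨u, hu⟩ h1
    refine Subtype.ext (Perm.ext fun y => ?_)
    obtain ⟨v, hv, q, hq, e⟩ := horb x₀ y
    have hvq : q (v x₀) = y := by rw [← e]; exact Equiv.congr_fun (hcommα q hq v hv) x₀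
    have hfix : u (v x₀) = v x₀ := congrArg Subtype.val (Equiv.congr_fun h1 ⟨v x₀, ⟨⟨v, hv⟩, rfl⟩⟩)
    show u y = y
    rw [← hvq, show u (q (v x₀)) = q (u (v x₀)) from (Equiv.congr_fun (hcommα q hq u hu) (v x₀)).symm, hfix]
  obtain ⟨j, hj⟩ := IsPGroup.iff_card.1 (P.isPGroup'.map N.subtype)
  have hjle : j ≤ powExp p a := by
    have hd := Subgroup.card_dvd_of_injective ψ hψ
    rw [Nat.card_perm, ha, hj] at hd
    have := (Nat.Prime.pow_dvd_iff_le_factorization hp.out (Nat.factorial_ne_zero _)).1 hd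
    rwa [factorization_factorial_pow] at this
  refine ⟨a, β, inferInstance, inferInstance, φ.range, ?_, ?_, ?_, j, hjle, ?_⟩
  · haveI : Group.IsNilpotent Qα :=
      Group.nilpotent_of_mulEquiv (Subgroup.equivMapOfInjective Q N.subtype N.subtype_injective)
    exact Group.nilpotent_of_surjective φ.rangeRestrict φ.rangeRestrict_surjective
  · rwa [← Nat.card_eq_fintype_card]
  · rw [hcardα, ha, ← Nat.card_eq_fintype_card]
  · rw [← Nat.card_congr (MonoidHom.ofInjective hinj).toEquiv]
    rw [← hj]
    calc Nat.card N = Nat.card (P : Subgroup N) * Nat.card Q := hQ.card_mul.symm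
      _ = Nat.card Pα * Nat.card Qα := by rw [Subgroup.card_map_of_injective N.subtype_injective, hQα]

/-- A group with an invariant set of points embeds into the product of its two restrictions. -/
theorem exists_split {α : Type u} [Fintype α] [DecidableEq α] (N : Subgroup (Perm α))
    (hN : Group.IsNilpotent N) (S : Finset α) (hS : ∀ g ∈ N, ∀ x, g x ∈ S ↔ x ∈ S) :
    ∃ (A : Subgroup (Perm {x // x ∈ S})) (B : Subgroup (Perm {x // x ∉ S})),
      Group.IsNilpotent A ∧ Group.IsNilpotent B ∧ Nat.card N ≤ Nat.card A * Nat.card B ∧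
      ((∀ g ∈ N, sign g = 1) → ((∀ a ∈ A, sign a = 1) ∧ (∀ b ∈ B, sign b = 1)) ∨
        2 * Nat.card N ≤ Nat.card A * Nat.card B) := by
  haveI := hN
  let φ : N →* Perm {x // x ∈ S} := MonoidHom.mk' (fun g => (g : Perm α).subtypePerm (fun y => hS g g.2 y))
    (fun _ _ => rfl)
  let ψ : N →* Perm {x // x ∉ S} :=
    MonoidHom.mk' (fun g => (g : Perm α).subtypePerm (fun y => not_congr (hS g g.2 y))) (fun _ _ => rfl)
  let χ : N →* φ.range × ψ.range := φ.rangeRestrict.prod ψ.rangeRestrict
  have hχ : Function.Injective χ := by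
    intro g h e
    refine Subtype.ext (Perm.ext fun x => ?_)
    by_cases hx : x ∈ S
    · exact congrArg Subtype.val (Equiv.congr_fun (congrArg (fun z => (z.1 : Perm {x // x ∈ S})) e) ⟨x, hx⟩)
    · exact congrArg Subtype.val (Equiv.congr_fun (congrArg (fun z => (z.2 : Perm {x // x ∉ S})) e) ⟨x, hx⟩)
  refine ⟨φ.range, ψ.range, Group.nilpotent_of_surjective φ.rangeRestrict φ.rangeRestrict_surjective,
    Group.nilpotent_of_surjective ψ.rangeRestrict ψ.rangeRestrict_surjective, ?_, fun heven => ?_⟩
  · rw [← Nat.card_prod]; exact Nat.card_le_card_of_injective χ hχ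
  · by_cases htop : χ.range = ⊤
    · left
      have hsurj := MonoidHom.range_eq_top.1 htop
      have key : ∀ g : N, sign (φ g) * sign (ψ g) = 1 := by
        intro g
        rw [← heven g g.2, ← sign_ofSubtype (φ g), ← sign_ofSubtype (ψ g), ← map_mul]
        congr 1
        refine Perm.ext fun x => ?_
        rw [Perm.mul_apply]
        by_cases hx : x ∈ S
        · rw [ofSubtype_apply_of_not_mem (ψ g) (by simpa using hx), ofSubtype_apply_of_mem (φ g) hx]
          rfl
        · rw [ofSubtype_apply_of_mem (ψ g) hx]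
          exact ofSubtype_apply_of_not_mem (φ g) (fun h : (g : Perm α) x ∈ S => hx ((hS g g.2 x).1 h))
      constructor
      · rintro _ ⟨g, rfl⟩
        obtain ⟨h, hh⟩ := hsurj (⟨φ g, g, rfl⟩, 1)
        have h1 : φ h = φ g := congrArg (fun z => (z.1 : Perm {x // x ∈ S})) hh
        have h2 : ψ h = 1 := congrArg (fun z => (z.2 : Perm {x // x ∉ S})) hh
        simpa [h1, h2] using key h
      · rintro _ ⟨g, rfl⟩
        obtain ⟨h, hh⟩ := hsurj (1, ⟨ψ g, g, rfl⟩)
        have h1 : φ h = 1 := congrArg (fun z => (z.1 : Perm {x // x ∈ S})) hh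
        have h2 : ψ h = ψ g := congrArg (fun z => (z.2 : Perm {x // x ∉ S})) hh
        simpa [h1, h2] using key h
    · right
      have h1 := Subgroup.card_mul_index χ.range
      rw [Nat.card_prod, ← Nat.card_congr (MonoidHom.ofInjective hχ).toEquiv] at h1
      have h2 : 2 ≤ χ.range.index := by
        have hne : χ.range.index ≠ 0 := Subgroup.index_ne_zero_of_finite
        have hne' : χ.range.index ≠ 1 := fun h => htop (Subgroup.index_eq_one.1 h)
        omega
      rw [← h1, mul_comm 2]
      exact Nat.mul_le_mul_left _ h2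

/-- An orbit, as an invariant set. -/
theorem exists_invariant {α : Type u} [Fintype α] [DecidableEq α] (N : Subgroup (Perm α))
    (hT : ¬ ∀ x y : α, ∃ g ∈ N, g x = y) :
    ∃ S : Finset α, (∀ g ∈ N, ∀ x, g x ∈ S ↔ x ∈ S) ∧ 1 ≤ S.card ∧ S.card < Fintype.card α := by
  classical
  push Not at hT
  obtain ⟨x, y, hxy⟩ := hT
  refine ⟨Finset.univ.filter fun z => ∃ g ∈ N, g x = z, fun g hg z => ?_, ?_, ?_⟩
  · simp only [Finset.mem_filter, Finset.mem_univ, true_and]
    constructor
    · rintro ⟨h, hh, e⟩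
      exact ⟨g⁻¹ * h, mul_mem (inv_mem hg) hh, by rw [Perm.mul_apply, e]; simp⟩
    · rintro ⟨h, hh, e⟩
      exact ⟨g * h, mul_mem hg hh, by rw [Perm.mul_apply, e]⟩
  · exact Finset.card_pos.2 ⟨x, by simpa using ⟨1, one_mem N, rfl⟩⟩
  · exact Finset.card_lt_univ_of_notMem (x := y) (by simpa using hxy)

theorem card_subtype_split {α : Type u} [Fintype α] [DecidableEq α] (S : Finset α) :
    Fintype.card {x // x ∈ S} = S.card ∧ Fintype.card {x // x ∉ S} = Fintype.card α - S.card :=
  ⟨Fintype.card_coe S, by rw [Fintype.card_subtype_compl, Fintype.card_coe]⟩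

/-- **Nilpotent permutation groups have order at most `nilBound n`.** -/
theorem card_le : ∀ (n : ℕ) (α : Type u) [Fintype α] [DecidableEq α] (N : Subgroup (Perm α)),
    Fintype.card α = n → Group.IsNilpotent N → Nat.card N ≤ nilBound n := by
  intro n
  induction n using Nat.strong_induction_on with
  | _ n ih =>
    intro α _ _ N hn hN
    rcases Nat.lt_or_ge n 2 with h2 | h2
    · haveI : Subsingleton α := Fintype.card_le_one_iff_subsingleton.1 (by omega)
      rw [Nat.card_unique]
      exact nilBound_pos n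
    by_cases hT : ∀ x y : α, ∃ g ∈ N, g x = y
    · obtain ⟨x₀⟩ : Nonempty α := Fintype.card_pos_iff.1 (by omega)
      haveI : Fact n.minFac.Prime := ⟨Nat.minFac_prime (by omega)⟩
      obtain ⟨a, β, _, _, M, hM, hpβ, hαβ, j, hj, heq⟩ := transitive_split N hN hT x₀ (p := n.minFac)
      have hle : Nat.card N ≤ n.minFac ^ powExp n.minFac a * Nat.card M :=
        heq ▸ Nat.mul_le_mul_right _ (Nat.pow_le_pow_right (Nat.minFac_pos n) hj)
      rw [hn] at hαβ
      have hlt : Fintype.card β < n := by
        rcases lt_or_ge (Fintype.card β) n with h | h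
        · exact h
        · exfalso
          have : n ≤ Fintype.card β ∧ n.minFac ∣ n := ⟨h, n.minFac_dvd⟩
          rcases Nat.eq_zero_or_pos a with rfl | ha
          · rw [pow_zero, one_mul] at hαβ
            exact hpβ (hαβ ▸ n.minFac_dvd)
          · have h1 : 2 ≤ n.minFac ^ a :=
              (Nat.minFac_prime (by omega)).two_le.trans (Nat.le_self_pow ha.ne' _)
            have h2' : 2 * Fintype.card β ≤ n := hαβ ▸ Nat.mul_le_mul_right _ h1
            omega
      refine hle.trans ((Nat.mul_le_mul (pow_powExp_le (Nat.minFac_prime (by omega)) a)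
        (ih _ hlt β M rfl hM)).trans ?_)
      rcases Nat.lt_or_ge (Fintype.card β) 2 with hb | hb
      · have hb1 : Fintype.card β = 1 := by
          have : Fintype.card β ≠ 0 := fun h => by rw [h, mul_zero] at hαβ; omega
          omega
        rw [hb1, mul_one] at hαβ
        rw [hb1, ← hαβ, show nilBound 1 = 1 by rw [nilBound_other (by norm_num), twoExp_one]; rfl, mul_one]
      · refine (nilBound_mul_le _ _).trans (nilBound_mono ?_)
        have h1 : 2 ≤ n.minFac ^ a := by
          rcases Nat.eq_zero_or_pos a with rfl | ha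
          · rw [pow_zero, one_mul] at hαβ; omega
          · exact (Nat.minFac_prime (by omega)).two_le.trans (Nat.le_self_pow ha.ne' _)
        exact (Nat.add_le_mul h1 hb).trans hαβ.ge
    · obtain ⟨S, hS, hS1, hS2⟩ := exists_invariant N hT
      obtain ⟨A, B, hA, hB, hle, -⟩ := exists_split N hN S hS
      obtain ⟨e1, e2⟩ := card_subtype_split S
      have hadd := nilBound_mul_le S.card (Fintype.card α - S.card)
      rw [Nat.add_sub_cancel' hS2.le, hn] at hadd
      exact hle.trans ((Nat.mul_le_mul (ih _ (by omega) _ A e1 hA)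
        (ih _ (by omega) _ B (by rw [e2, hn]) hB)).trans hadd)

end CfsgLib.SymSylow.NilPerm
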