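/-
Orders of nilpotent groups of even permutations.
-/
import Cfsg.Agent.Lib.SymSylow.NilpotentPerm.Bound

set_option autoImplicit false

namespace CfsgLib.SymSylow.NilPerm

open Equiv Equiv.Perm

universe u

/-- The exceptional orders for the even bound. -/
def altExc : ℕ → ℕ
  | 0 => 1
  | 1 => 1
  | 3 => 3
  | 5 => 5
  | 6 => 9
  | 9 => 81
  | _ => 0

theorem altExc_support (n : ℕ) (h : altExc n ≠ 0) : n = 0 ∨ n = 1 ∨ n = 3 ∨ n = 5 ∨ n = 6 ∨ n = 9 := by
  unfold altExc at h
  split at h <;> first
    | (exfalso; exact h rfl)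
    | omega

theorem nilBound_small : nilBound 1 = 1 ∧ nilBound 3 = 3 ∧ nilBound 4 = 8 ∧ nilBound 6 = 16 ∧ nilBound 7 = 24 ∧
    nilBound 8 = 128 ∧ nilBound 9 = 128 ∧ nilBound 10 = 256 ∧ nilBound 11 = 384 ∧ nilBound 12 = 1024 ∧
    nilBound 14 = 2048 ∧ nilBound 15 = 3072 ∧ nilBound 18 = 65536 := by
  obtain ⟨-, e6, e8, e9, e10, e12, e14, e18, -, -⟩ := twoExp_small
  have t7 : nilBound (4 * 1 + 3) = 3 * 2 ^ twoExp (4 * 1) := nilBound_three 1
  have t11 : nilBound (4 * 2 + 3) = 3 * 2 ^ twoExp (4 * 2) := nilBound_three 2
  have t15 : nilBound (4 * 3 + 3) = 3 * 2 ^ twoExp (4 * 3) := nilBound_three 3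
  have t3 : nilBound (4 * 0 + 3) = 3 * 2 ^ twoExp (4 * 0) := nilBound_three 0
  refine ⟨?_, ?_, ?_, ?_, ?_, ?_, ?_, ?_, ?_, ?_, ?_, ?_, ?_⟩ <;>
    first
    | (norm_num [twoExp_zero, twoExp_four, e8, e12] at t3 t7 t11 t15; assumption)
    | (rw [nilBound_other (by norm_num)]; norm_num [twoExp_one, twoExp_four, e6, e8, e9, e10, e12, e14, e18])

/-- Two exceptional constituents. -/
theorem exc_mul {a b : ℕ} (ha : 1 ≤ a) (hb : 1 ≤ b) (ha' : altExc a ≠ 0) (hb' : altExc b ≠ 0) :
    2 * (altExc a * altExc b) ≤ nilBound (a + b) ∨ altExc a * altExc b ≤ altExc (a + b) := by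
  obtain ⟨n1, n3, n4, n6, n7, n8, n9, n10, n11, n12, n14, n15, n18⟩ := nilBound_small
  rcases altExc_support a ha' with rfl | rfl | rfl | rfl | rfl | rfl <;>
    rcases altExc_support b hb' with rfl | rfl | rfl | rfl | rfl | rfl <;>
    first
    | (exfalso; omega)
    | (norm_num [altExc, n4, n6, n7, n8, n9, n10, n11, n12, n14, n15, n18, nilBound_two])

theorem two_mul_card_dvd {α : Type u} [Fintype α] [DecidableEq α] (N : Subgroup (Perm α))
    (hev : ∀ g ∈ N, sign g = 1) (h2 : 2 ≤ Fintype.card α) : 2 * Nat.card N ∣ (Fintype.card α).factorial := by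
  haveI : Nontrivial α := Fintype.one_lt_card_iff_nontrivial.1 h2
  have h : N ≤ alternatingGroup α := fun g hg => Perm.mem_alternatingGroup.2 (hev g hg)
  rw [← Fintype.card_perm, ← two_mul_card_alternatingGroup, ← Nat.card_eq_fintype_card]
  exact mul_dvd_mul_left 2 (Subgroup.card_dvd_of_le h)

/-- **Nilpotent groups of even permutations.** -/
theorem alt_card_le : ∀ (n : ℕ) (α : Type u) [Fintype α] [DecidableEq α] (N : Subgroup (Perm α)),
    Fintype.card α = n → Group.IsNilpotent N → (∀ g ∈ N, sign g = 1) →
      2 * Nat.card N ≤ nilBound n ∨ Nat.card N ≤ altExc n := by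
  intro n
  induction n using Nat.strong_induction_on with
  | _ n ih =>
    intro α _ _ N hn hN hev
    rcases Nat.lt_or_ge n 2 with h2 | h2
    · right
      haveI : Subsingleton α := Fintype.card_le_one_iff_subsingleton.1 (by omega)
      rw [Nat.card_unique]
      interval_cases n <;> exact le_rfl
    by_cases hT : ∀ x y : α, ∃ g ∈ N, g x = y
    · obtain ⟨x₀⟩ : Nonempty α := Fintype.card_pos_iff.1 (by omega)
      have hp : n.minFac.Prime := Nat.minFac_prime (by omega)
      haveI : Fact n.minFac.Prime := ⟨hp⟩
      obtain ⟨a, β, _, _, M, hM, hpβ, hαβ, j, hj, heq⟩ := transitive_split N hN hT x₀ (p := n.minFac)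
      rw [hn] at hαβ
      have ha : 1 ≤ a := by
        rcases Nat.eq_zero_or_pos a with rfl | ha
        · rw [pow_zero, one_mul] at hαβ
          exact absurd (hαβ ▸ n.minFac_dvd) hpβ
        · exact ha
      have hb0 : Fintype.card β ≠ 0 := fun h => by rw [h, mul_zero] at hαβ; omega
      rcases Nat.lt_or_ge (Fintype.card β) 2 with hb | hb
      · have hb1 : Fintype.card β = 1 := by omega
        haveI : Subsingleton β := Fintype.card_le_one_iff_subsingleton.1 (by omega)
        rw [Nat.card_unique (α := M), mul_one] at heq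
        rw [hb1, mul_one] at hαβ
        by_cases hp2 : n.minFac = 2
        · left
          rw [hp2] at heq hαβ hj
          have hd : 2 ^ (j + 1) ∣ n.factorial := by
            rw [pow_succ', ← heq, ← hn]
            exact two_mul_card_dvd N hev (by omega)
          have hle : j + 1 ≤ twoExp n :=
            (Nat.Prime.pow_dvd_iff_le_factorization Nat.prime_two (Nat.factorial_ne_zero _)).1 hd
          rw [heq, ← pow_succ']
          exact (Nat.pow_le_pow_right two_pos hle).trans (pow_two_le_nilBound n)
        · have hle : Nat.card N ≤ n.minFac ^ powExp n.minFac a :=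
            heq ▸ Nat.pow_le_pow_right hp.pos hj
          by_cases h359 : n = 3 ∨ n = 5 ∨ n = 9
          · right
            rcases h359 with rfl | rfl | rfl
            · have : a = 1 := Nat.pow_right_injective (show 2 ≤ 3 by norm_num)
                (by simpa [show Nat.minFac 3 = 3 by norm_num] using hαβ.symm)
              subst this
              simpa [show Nat.minFac 3 = 3 by norm_num, powExp, altExc] using hle
            · have : a = 1 := Nat.pow_right_injective (show 2 ≤ 5 by norm_num)
                (by simpa [show Nat.minFac 5 = 5 by norm_num] using hαβ.symm)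
              subst this
              simpa [show Nat.minFac 5 = 5 by norm_num, powExp, altExc] using hle
            · have h3 : Nat.minFac 9 = 3 := by norm_num
              have : a = 2 := Nat.pow_right_injective (show 2 ≤ 3 by norm_num)
                (by rw [h3] at hαβ; show (3 : ℕ) ^ a = 3 ^ 2; omega)
              subst this
              simpa [h3, powExp, altExc] using hle
          · left
            push Not at h359
            have := two_mul_pow_le hp hp2 a ha (hαβ ▸ h359.1) (hαβ ▸ h359.2.1) (hαβ ▸ h359.2.2)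
            rw [← hαβ] at this
            omega
      · have h1 : 2 ≤ n.minFac ^ a := hp.two_le.trans (Nat.le_self_pow (by omega) _)
        have hle : Nat.card N ≤ nilBound (n.minFac ^ a) * nilBound (Fintype.card β) := by
          rw [heq]
          exact Nat.mul_le_mul ((Nat.pow_le_pow_right hp.pos hj).trans (pow_powExp_le hp a))
            (card_le _ β M rfl hM)
        obtain ⟨q, hq⟩ : ∃ q, n.minFac ^ a = q := ⟨_, rfl⟩
        rw [hq] at hle h1 hαβ
        obtain ⟨k, hk⟩ : ∃ k, Fintype.card β = k := ⟨_, rfl⟩
        rw [hk] at hle hb hαβ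
        by_cases hbig : q + k + 2 ≤ n
        · left
          calc 2 * Nat.card N ≤ 2 * nilBound (q + k) := Nat.mul_le_mul_left 2 (hle.trans (nilBound_mul_le q k))
            _ ≤ nilBound n := two_mul_nilBound hbig
        · have hq3 : q ≤ 3 := by nlinarith
          have hk3 : k ≤ 3 := by nlinarith
          subst hαβ
          obtain ⟨-, n3, n4, n6, -⟩ := nilBound_small
          generalize Nat.card N = c at hle ⊢
          interval_cases q <;> interval_cases k
          all_goals simp only [nilBound_two, n3, n4, n6, Nat.reduceMul, Nat.reduceAdd] at *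
          all_goals simp only [altExc] at *
          all_goals omega
    · obtain ⟨S, hS, hS1, hS2⟩ := exists_invariant N hT
      obtain ⟨A, B, hA, hB, hle, hpar⟩ := exists_split N hN S hS
      obtain ⟨e1, e2⟩ := card_subtype_split S
      obtain ⟨b, hb⟩ : ∃ b, n = S.card + b := ⟨n - S.card, by omega⟩
      rw [hn, hb, Nat.add_sub_cancel_left] at e2
      have hA' := card_le _ _ A e1 hA
      have hB' := card_le _ _ B e2 hB
      have hadd := nilBound_mul_le S.card b
      rw [← hb] at hadd
      rcases hpar hev with ⟨evA, evB⟩ | h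
      · rcases ih _ (by omega) _ A e1 hA evA with h | hAe
        · left
          calc 2 * Nat.card N ≤ 2 * Nat.card A * Nat.card B := by rw [mul_assoc]; omega
            _ ≤ _ := (Nat.mul_le_mul h hB').trans hadd
        rcases ih _ (by omega) _ B e2 hB evB with h | hBe
        · left
          calc 2 * Nat.card N ≤ Nat.card A * (2 * Nat.card B) := by rw [mul_left_comm]; omega
            _ ≤ _ := (Nat.mul_le_mul hA' h).trans hadd
        have hm := Nat.mul_le_mul hAe hBe
        have := exc_mul hS1 (show 1 ≤ b by omega)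
          (by have : 0 < Nat.card A := Nat.card_pos; omega)
          (by have : 0 < Nat.card B := Nat.card_pos; omega)
        rw [← hb] at this
        omega
      · exact Or.inl (h.trans ((Nat.mul_le_mul hA' hB').trans hadd))

end CfsgLib.SymSylow.NilPerm
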