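/-
Extremal nilpotent subgroups in degree congruent to 3 modulo 4.
-/
import Cfsg.Agent.Lib.SymSylow.NilpotentPerm.Alt

set_option autoImplicit false

namespace CfsgLib.SymSylow.NilPerm

open Equiv Equiv.Perm

theorem card_sylow_perm (m : ℕ) (P : Sylow 2 (Perm (Fin m))) : Nat.card P = 2 ^ twoExp m := by
  rw [P.card_eq_multiplicity, Nat.card_perm, Nat.card_fin]
  rfl

theorem card_sylow_alt {m : ℕ} (hm : 2 ≤ m) (P : Sylow 2 (alternatingGroup (Fin m))) :
    2 * Nat.card P = 2 ^ twoExp m := by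
  haveI : Nontrivial (Fin m) := Fin.nontrivial_iff_two_le.2 hm
  have h := two_mul_card_alternatingGroup (α := Fin m)
  rw [← Nat.card_eq_fintype_card, Fintype.card_perm, Fintype.card_fin] at h
  rw [P.card_eq_multiplicity, ← pow_succ', twoExp, ← h,
    Nat.factorization_mul (by norm_num) Nat.card_pos.ne', Finsupp.add_apply,
    Nat.Prime.factorization_self Nat.prime_two, add_comm]

theorem twoExp_gap {i : ℕ} (hi : 1 ≤ i) : twoExp (4 * i - 1) + 2 ≤ twoExp (4 * i) := by
  obtain ⟨j, rfl⟩ : ∃ j, i = j + 1 := ⟨i - 1, by omega⟩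
  rw [show 4 * (j + 1) - 1 = 4 * j + 3 by omega, twoExp_four_three]
  have := twoExp_add_le (4 * j) 4
  rw [twoExp_four, show 4 * j + 4 = 4 * (j + 1) by ring] at this
  omega

/-- The element of order three in an extremal group is a 3-cycle. -/
theorem exists_threeCycle {n : ℕ} (hn : n % 4 = 3) (N : Subgroup (Perm (Fin n))) [Group.IsNilpotent N] {e : ℕ}
    (he : twoExp (n - 3) ≤ e + 1) (hc : Nat.card N = 3 * 2 ^ e) :
    ∃ x ∈ N, x.IsThreeCycle ∧ ∀ g ∈ N, Commute x g := by
  classical
  haveI : Fact (Nat.Prime 3) := ⟨Nat.prime_three⟩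
  obtain ⟨x, hx⟩ := exists_prime_orderOf_dvd_card' (G := N) 3 ⟨2 ^ e, hc⟩
  have hxN : orderOf (x : Perm (Fin n)) = 3 := by rw [Subgroup.orderOf_coe]; exact hx
  obtain ⟨T, hT⟩ := Sylow.exists_subgroup_card_pow_prime (G := N) 2 (n := e) ⟨3, by rw [hc, mul_comm]⟩
  have htop : Subgroup.centralizer {x} = ⊤ := by
    refine Subgroup.eq_top_of_le_card _ ?_
    rw [hc]
    refine Nat.le_of_dvd Nat.card_pos (Nat.Coprime.mul_dvd_of_dvd_of_dvd
      (Nat.Coprime.pow_right e (by norm_num : Nat.Coprime 3 2)) ?_ ?_)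
    · rw [← hx, ← Nat.card_zpowers x]
      exact Subgroup.card_dvd_of_le (Subgroup.zpowers_le.2 (Subgroup.mem_centralizer_singleton_iff.2 rfl))
    · rw [← hT]
      refine Subgroup.card_dvd_of_le fun t ht => Subgroup.mem_centralizer_singleton_iff.2 ?_
      refine CfsgLib.OddLocal.commute_of_coprime_orderOf t x ?_
      rw [hx]
      exact Nat.Coprime.coprime_dvd_left (hT ▸ Subgroup.orderOf_dvd_natCard T ht)
        (Nat.Coprime.pow_left e (by norm_num))
  have hcent : ∀ g ∈ N, Commute (x : Perm (Fin n)) g := fun g hg => by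
    have h : (⟨g, hg⟩ : N) ∈ Subgroup.centralizer {x} := htop ▸ Subgroup.mem_top _
    exact (congrArg Subtype.val (Subgroup.mem_centralizer_singleton_iff.1 h)).symm
  refine ⟨x, x.2, ?_, hcent⟩
  obtain ⟨k, hk⟩ := cycleType_prime_order (σ := (x : Perm (Fin n))) (by rw [hxN]; exact Nat.prime_three)
  rw [hxN] at hk
  rcases Nat.eq_zero_or_pos k with rfl | hk1
  · exact hk
  exfalso
  have hle : 3 * (k + 1) ≤ n := by
    have := (x : Perm (Fin n)).sum_cycleType ▸ Finset.card_le_univ (x : Perm (Fin n)).support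
    rw [hk, Multiset.sum_replicate, smul_eq_mul, Fintype.card_fin] at this
    omega
  have hN : N ≤ Subgroup.centralizer {(x : Perm (Fin n))} := fun g hg => by
    rw [Subgroup.mem_centralizer_singleton_iff]
    exact (hcent g hg).symm.eq
  have h2 : 2 ^ e ∣ Nat.card (Subgroup.centralizer {(x : Perm (Fin n))}) :=
    dvd_trans ⟨3, by rw [hc, mul_comm]⟩ (Subgroup.card_dvd_of_le hN)
  rw [nat_card_centralizer, hk, Multiset.sum_replicate, Multiset.prod_replicate, smul_eq_mul, Fintype.card_fin] at h2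
  have hset : (Multiset.replicate (k + 1) 3).toFinset = {3} := by
    ext m; rw [Multiset.mem_toFinset, Multiset.mem_replicate, Finset.mem_singleton]; simp
  rw [hset, Finset.prod_singleton, Multiset.count_replicate_self] at h2
  have := (Nat.Prime.pow_dvd_iff_le_factorization Nat.prime_two (by positivity)).1 h2
  rw [Nat.factorization_mul (by positivity) (Nat.factorial_ne_zero _), Finsupp.add_apply,
    Nat.factorization_mul (Nat.factorial_ne_zero _) (by positivity), Finsupp.add_apply,
    Nat.factorization_eq_zero_of_not_dvd (fun h => absurd (Nat.prime_two.dvd_of_dvd_pow h) (by norm_num))] at this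
  change e ≤ twoExp (n - (k + 1) * 3) + 0 + twoExp (k + 1) at this
  have h4 := twoExp_add_le (n - (k + 1) * 3) (k + 1)
  have h5 := twoExp_mono (show n - (k + 1) * 3 + (k + 1) ≤ n - 4 by omega)
  obtain ⟨i, rfl⟩ : ∃ i, n = 4 * i + 3 := ⟨n / 4, by omega⟩
  have hg := twoExp_gap (show 1 ≤ i by omega)
  rw [show 4 * i + 3 - 4 = 4 * i - 1 by omega] at h5
  rw [Nat.add_sub_cancel] at he
  omega

/-- The two-part of the centralizer of a 3-cycle. -/
theorem centralizer_threeCycle {n : ℕ} {x : Perm (Fin n)} (hx : x.IsThreeCycle) :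
    Nat.card (Subgroup.centralizer {x}) = (n - 3).factorial * 3 := by
  rw [nat_card_centralizer, show x.cycleType = {3} from hx, Fintype.card_fin]
  simp

/-- The two-part in the alternating group is halved. -/
theorem alt_centralizer_threeCycle {n : ℕ} (h5 : 5 ≤ n) {x : alternatingGroup (Fin n)}
    (hx : (x : Perm (Fin n)).IsThreeCycle) :
    2 * Nat.card (Subgroup.centralizer {x}) = (n - 3).factorial * 3 := by
  classical
  rw [← centralizer_threeCycle hx]
  set C := Subgroup.centralizer {(x : Perm (Fin n))}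
  have hmap : (Subgroup.centralizer {x}).map (alternatingGroup (Fin n)).subtype = alternatingGroup (Fin n) ⊓ C := by
    ext g
    constructor
    · rintro ⟨g, hg, rfl⟩
      exact ⟨g.2, Subgroup.mem_centralizer_singleton_iff.2
        (congrArg Subtype.val (Subgroup.mem_centralizer_singleton_iff.1 hg))⟩
    · rintro ⟨hg, hg'⟩
      exact ⟨⟨g, hg⟩, Subgroup.mem_centralizer_singleton_iff.2
        (Subtype.ext (Subgroup.mem_centralizer_singleton_iff.1 hg')), rfl⟩
  rw [← Subgroup.card_map_of_injective (alternatingGroup (Fin n)).subtype_injective, hmap]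
  haveI : Nontrivial (Fin n) := Fin.nontrivial_iff_two_le.2 (by omega)
  have hd : (alternatingGroup (Fin n)).relIndex C ∣ 2 := alternatingGroup.index_eq_two (α := Fin n) ▸
    Subgroup.relIndex_dvd_index_of_normal _ C
  have h1 : (alternatingGroup (Fin n)).relIndex C ≠ 1 := by
    intro h
    have hcard : (x : Perm (Fin n)).support.card = 3 := hx.card_support
    obtain ⟨a, ha, b, hb, hab⟩ := Finset.one_lt_card.1
      (show 1 < (x : Perm (Fin n)).supportᶜ.card by rw [Finset.card_compl, hcard, Fintype.card_fin]; omega)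
    have hdis : Disjoint (swap a b) (x : Perm (Fin n)) := by
      rw [disjoint_iff_disjoint_support, support_swap hab, Finset.disjoint_left]
      intro c hc
      rcases Finset.mem_insert.1 hc with rfl | hc
      · exact Finset.mem_compl.1 ha
      · rw [Finset.mem_singleton.1 hc]; exact Finset.mem_compl.1 hb
    have hs := (Subgroup.relIndex_eq_one.1 h) (Subgroup.mem_centralizer_singleton_iff.2 hdis.commute.eq : swap a b ∈ C)
    rw [mem_alternatingGroup, sign_swap hab] at hs
    exact absurd hs (by decide)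
  have h2 : (alternatingGroup (Fin n)).relIndex C = 2 := ((Nat.dvd_prime Nat.prime_two).1 hd).resolve_left h1
  have := Subgroup.card_mul_index ((alternatingGroup (Fin n)).subgroupOf C)
  rw [show ((alternatingGroup (Fin n)).subgroupOf C).index = 2 from h2, ← Subgroup.card_map_of_injective C.subtype_injective,
    Subgroup.subgroupOf_map_subtype] at this
  omega

/-- Two groups of order `3 * 2 ^ e` centralizing conjugate elements of order 3 are conjugate. -/
theorem conj_of_centralizer {G : Type} [Group G] [Finite G] (N₁ N₂ : Subgroup G) {e : ℕ}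
    (h₁ : Nat.card N₁ = 3 * 2 ^ e) (h₂ : Nat.card N₂ = 3 * 2 ^ e) {x₁ x₂ : G} (m₁ : x₁ ∈ N₁) (m₂ : x₂ ∈ N₂)
    (ho : orderOf x₂ = 3) (c₁ : ∀ g ∈ N₁, Commute x₁ g) (c₂ : ∀ g ∈ N₂, Commute x₂ g) (hconj : IsConj x₁ x₂)
    (hC : ¬ 2 ^ (e + 1) ∣ Nat.card (Subgroup.centralizer {x₂})) :
    ∃ g : G, N₂ = N₁.map (MulAut.conj g).toMonoidHom := by
  classical
  obtain ⟨g, hg⟩ := isConj_iff.1 hconj
  set N₃ := N₁.map (MulAut.conj g).toMonoidHom with hN₃
  have h₃ : Nat.card N₃ = 3 * 2 ^ e := (Subgroup.card_map_of_injective (MulAut.conj g).injective).trans h₁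
  have m₃ : x₂ ∈ N₃ := ⟨x₁, m₁, hg⟩
  have c₃ : ∀ u ∈ N₃, Commute x₂ u := by
    rintro _ ⟨u, hu, rfl⟩
    rw [← hg]
    exact (c₁ u hu).map (MulAut.conj g).toMonoidHom
  set C := Subgroup.centralizer {x₂}
  have key : ∀ N : Subgroup G, Nat.card N = 3 * 2 ^ e → x₂ ∈ N → (∀ u ∈ N, Commute x₂ u) →
      ∃ T : Sylow 2 C, N = Subgroup.zpowers x₂ ⊔ (T : Subgroup C).map C.subtype := by
    intro N hN hm hc
    have hle : N ≤ C := fun u hu => Subgroup.mem_centralizer_singleton_iff.2 (hc u hu).symm.eq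
    obtain ⟨T, hT⟩ := Sylow.exists_subgroup_card_pow_prime (G := N) 2 (n := e) ⟨3, by rw [hN, mul_comm]⟩
    let T' : Subgroup C := T.map (Subgroup.inclusion hle)
    have hT' : Nat.card T' = 2 ^ e := (Subgroup.card_map_of_injective (Subgroup.inclusion_injective hle)).trans hT
    obtain ⟨Q, hQ⟩ := (IsPGroup.of_card hT' : IsPGroup 2 T').exists_le_sylow
    have hQc : Nat.card Q = 2 ^ e := by
      obtain ⟨j, hj⟩ := IsPGroup.iff_card.1 Q.isPGroup'
      have h1 : e ≤ j := by
        have := Subgroup.card_dvd_of_le hQ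
        rw [hT', hj] at this
        exact (Nat.pow_dvd_pow_iff_le_right (by norm_num)).1 this
      have h2 : ¬ e + 1 ≤ j := fun h => hC ((pow_dvd_pow 2 h).trans (hj ▸ Subgroup.card_subgroup_dvd_card _))
      rw [hj, show j = e by omega]
    have hQeq : T' = (Q : Subgroup C) := Subgroup.eq_of_le_of_card_ge hQ (by rw [hQc, hT'])
    refine ⟨Q, (Subgroup.eq_of_le_of_card_ge (sup_le (Subgroup.zpowers_le.2 hm) ?_) ?_).symm⟩
    · rw [← hQeq]
      rintro _ ⟨_, ⟨u, -, rfl⟩, rfl⟩
      exact u.2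
    · rw [hN]
      refine Nat.le_of_dvd Nat.card_pos (Nat.Coprime.mul_dvd_of_dvd_of_dvd (Nat.Coprime.pow_right e (by norm_num : Nat.Coprime 3 2)) ?_ ?_)
      · rw [← ho, ← Nat.card_zpowers x₂]; exact Subgroup.card_dvd_of_le le_sup_left
      · have h5 : Nat.card ((Q : Subgroup C).map C.subtype) = 2 ^ e :=
          (Nat.card_congr (Subgroup.equivMapOfInjective _ C.subtype C.subtype_injective).toEquiv.symm).trans hQc
        rw [← h5]
        exact Subgroup.card_dvd_of_le le_sup_right
  obtain ⟨T₃, e₃⟩ := key N₃ h₃ m₃ c₃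
  obtain ⟨T₂, e₂⟩ := key N₂ h₂ m₂ c₂
  obtain ⟨c, hc⟩ := MulAction.exists_smul_eq C T₃ T₂
  refine ⟨(c : G) * g, ?_⟩
  have h4 : N₁.map (MulAut.conj ((c : G) * g)).toMonoidHom = N₃.map (MulAut.conj (c : G)).toMonoidHom := by
    rw [hN₃, Subgroup.map_map]
    congr 1
    ext u
    simp [mul_assoc]
  rw [h4, e₃, e₂, Subgroup.map_sup, MonoidHom.map_zpowers, Subgroup.map_map]
  congr 1
  · rw [show (MulAut.conj (c : G)).toMonoidHom x₂ = x₂ from
      mul_inv_eq_iff_eq_mul.2 (Subgroup.mem_centralizer_singleton_iff.1 c.2)]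
  · rw [← hc, Sylow.coe_subgroup_smul, Subgroup.pointwise_smul_def]
    exact (Subgroup.map_map _ _ _).trans (congrArg (fun f => Subgroup.map f _) (MonoidHom.ext fun _ => rfl))

end CfsgLib.SymSylow.NilPerm
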