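/-
Large nilpotent subgroups of symmetric and alternating groups.
-/
import Cfsg.Agent.Lib.SymSylow.NilpotentPerm.Unique

set_option autoImplicit false

namespace CfsgLib.SymSylow.NilPerm

open Equiv Equiv.Perm

/-- Rotations of three points. -/
def rotHom : Multiplicative (ZMod 3) →* Perm (Fin 3) :=
  MonoidHom.mk' (fun z => (Equiv.addLeft (Multiplicative.toAdd z) : Perm (ZMod 3)))
    (fun a b => Equiv.ext fun x => add_assoc (Multiplicative.toAdd a) (Multiplicative.toAdd b) x)

/-- A permutation of `m` points times a rotation of three more. -/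
noncomputable def addThree (m : ℕ) : Perm (Fin m) × Multiplicative (ZMod 3) →* Perm (Fin (m + 3)) :=
  ((finSumFinEquiv : Fin m ⊕ Fin 3 ≃ Fin (m + 3)).permCongrHom.toMonoidHom.comp (sumCongrHom (Fin m) (Fin 3))).comp
    ((MonoidHom.id _).prodMap rotHom)

theorem addThree_injective (m : ℕ) : Function.Injective (addThree m) := by
  have hr : Function.Injective rotHom := by
    intro a b h
    have h' : Multiplicative.toAdd a + (0 : ZMod 3) = Multiplicative.toAdd b + 0 := Equiv.congr_fun h (0 : ZMod 3)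
    rw [add_zero, add_zero] at h'
    exact h'
  have hp : Function.Injective ((MonoidHom.id (Perm (Fin m))).prodMap rotHom) :=
    fun a b h => Prod.ext (congrArg Prod.fst h :) (hr (congrArg Prod.snd h :))
  exact (((finSumFinEquiv : Fin m ⊕ Fin 3 ≃ Fin (m + 3)).permCongrHom).injective).comp
    (sumCongrHom_injective.comp hp)

theorem sign_rotHom (z : Multiplicative (ZMod 3)) : sign (rotHom z) = 1 := by
  have h : z ^ 3 = 1 := by
    have := pow_card_eq_one' (G := Multiplicative (ZMod 3)) (x := z)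
    rwa [Nat.card_congr Multiplicative.toAdd, Nat.card_zmod] at this
  have h2 := congrArg (fun g => sign (rotHom g)) h
  simp only [map_pow, map_one] at h2
  rcases Int.units_eq_one_or (sign (rotHom z)) with e | e
  · exact e
  · rw [e] at h2; exact absurd h2 (by decide)

theorem sign_addThree (m : ℕ) (σ : Perm (Fin m)) (z : Multiplicative (ZMod 3)) :
    sign (addThree m (σ, z)) = sign σ := by
  show sign ((finSumFinEquiv : Fin m ⊕ Fin 3 ≃ Fin (m + 3)).permCongr (Equiv.sumCongr σ (rotHom z))) = _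
  rw [sign_permCongr, sign_sumCongr, sign_rotHom, mul_one]

/-- The version for even permutations. -/
noncomputable def addThreeAlt (m : ℕ) :
    alternatingGroup (Fin m) × Multiplicative (ZMod 3) →* alternatingGroup (Fin (m + 3)) :=
  ((addThree m).comp ((alternatingGroup (Fin m)).subtype.prodMap (MonoidHom.id _))).codRestrict _
    fun p => mem_alternatingGroup.2 ((sign_addThree m p.1 p.2).trans p.1.2)

theorem addThreeAlt_injective (m : ℕ) : Function.Injective (addThreeAlt m) := by
  intro a b h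
  exact (Function.Injective.prodMap Subtype.val_injective Function.injective_id)
    (addThree_injective m (congrArg Subtype.val h))

/-- The extremal subgroup built from a Sylow 2-subgroup. -/
theorem exists_extremal {G H : Type} [Group G] [Group H] [Finite G] (f : G × Multiplicative (ZMod 3) →* H)
    (hf : Function.Injective f) (P : Sylow 2 G) :
    ∃ M : Subgroup H, Group.IsNilpotent M ∧ Nat.card M = 3 * Nat.card P ∧
      Nonempty (M ≃* (↥(P : Subgroup G) × Multiplicative (ZMod 3))) := by
  let g : ↥(P : Subgroup G) × Multiplicative (ZMod 3) →* H :=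
    f.comp ((P : Subgroup G).subtype.prodMap (MonoidHom.id _))
  have hg : Function.Injective g := hf.comp (Function.Injective.prodMap Subtype.val_injective Function.injective_id)
  haveI : Group.IsNilpotent (P : Subgroup G) := P.isPGroup'.isNilpotent
  refine ⟨g.range, Group.nilpotent_of_mulEquiv (MonoidHom.ofInjective hg), ?_,
    ⟨(MonoidHom.ofInjective hg).symm⟩⟩
  rw [← Nat.card_congr (MonoidHom.ofInjective hg).toEquiv, Nat.card_prod, Nat.card_congr Multiplicative.toAdd,
    Nat.card_zmod, mul_comm]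

theorem sym_le {n : ℕ} (N : Subgroup (Perm (Fin n))) (hN : Group.IsNilpotent N) :
    Nat.card N ≤ nilBound n := card_le n _ N (Fintype.card_fin n) hN

theorem alt_le {n : ℕ} (N : Subgroup (alternatingGroup (Fin n))) (hN : Group.IsNilpotent N) :
    2 * Nat.card N ≤ nilBound n ∨ Nat.card N ≤ altExc n := by
  haveI := hN
  have h := alt_card_le n (Fin n) (N.map (alternatingGroup (Fin n)).subtype) (Fintype.card_fin n)
    (Group.nilpotent_of_mulEquiv (Subgroup.equivMapOfInjective N _ (alternatingGroup (Fin n)).subtype_injective))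
    (by rintro _ ⟨g, -, rfl⟩; exact g.2)
  rwa [Subgroup.card_map_of_injective (alternatingGroup (Fin n)).subtype_injective] at h

theorem main_sym {n : ℕ} (hn : n % 4 ≠ 3) (N : Subgroup (Perm (Fin n))) (hN : Group.IsNilpotent N)
    (P : Sylow 2 (Perm (Fin n))) : Nat.card N ≤ Nat.card P := by
  rw [card_sylow_perm, ← nilBound_other hn]
  exact sym_le N hN

theorem main_alt {n : ℕ} (hn : n % 4 ≠ 3) (h5 : n ≠ 5) (h6 : n ≠ 6) (h9 : n ≠ 9)
    (N : Subgroup (alternatingGroup (Fin n))) (hN : Group.IsNilpotent N)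
    (P : Sylow 2 (alternatingGroup (Fin n))) : Nat.card N ≤ Nat.card P := by
  have hp : 0 < Nat.card P := Nat.card_pos
  have hc : 0 < Nat.card N := Nat.card_pos
  rcases Nat.lt_or_ge n 2 with h2 | h2
  · haveI : Subsingleton (Fin n) := ⟨fun a b => Fin.ext (by omega)⟩
    rw [Nat.card_unique (α := N)]
    exact hp
  rcases alt_le N hN with h | h
  · rw [nilBound_other hn, ← card_sylow_alt h2 P] at h
    omega
  · rcases altExc_support n (by omega) with e | e | e | e | e | e <;> omega

theorem main_sym_three {n : ℕ} (hn : n % 4 = 3) (P : Sylow 2 (Perm (Fin (n - 3)))) :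
    (∀ N : Subgroup (Perm (Fin n)), Group.IsNilpotent N → Nat.card N ≤ 3 * Nat.card P) ∧
    (∃ M : Subgroup (Perm (Fin n)), Group.IsNilpotent M ∧ Nat.card M = 3 * Nat.card P ∧
      Nonempty (M ≃* (↥(P : Subgroup (Perm (Fin (n - 3)))) × Multiplicative (ZMod 3)))) ∧
    (∀ N₁ N₂ : Subgroup (Perm (Fin n)), Group.IsNilpotent N₁ → Group.IsNilpotent N₂ →
      Nat.card N₁ = 3 * Nat.card P → Nat.card N₂ = 3 * Nat.card P →
      ∃ g : Perm (Fin n), N₂ = N₁.map (MulAut.conj g).toMonoidHom) := by
  refine ⟨fun N hN => ?_, ?_, fun N₁ N₂ hN₁ hN₂ h₁ h₂ => ?_⟩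
  · refine (sym_le N hN).trans (le_of_eq ?_)
    rw [card_sylow_perm, nilBound, if_pos hn]
  · refine exists_extremal ((finCongr (Nat.sub_add_cancel (by omega : 3 ≤ n))).permCongrHom.toMonoidHom.comp
      (addThree (n - 3))) ?_ P
    exact ((finCongr (Nat.sub_add_cancel (by omega : 3 ≤ n))).permCongrHom.injective).comp (addThree_injective _)
  · rw [card_sylow_perm] at h₁ h₂
    haveI := hN₁
    haveI := hN₂
    obtain ⟨x₁, m₁, t₁, c₁⟩ := exists_threeCycle hn N₁ (Nat.le_succ _) h₁
    obtain ⟨x₂, m₂, t₂, c₂⟩ := exists_threeCycle hn N₂ (Nat.le_succ _) h₂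
    refine conj_of_centralizer N₁ N₂ h₁ h₂ m₁ m₂ t₂.orderOf c₁ c₂ (isConj_iff_cycleType_eq.2 (t₁.trans t₂.symm)) ?_
    rw [centralizer_threeCycle t₂]
    intro h
    have := (Nat.Coprime.pow_left _ (by norm_num : Nat.Coprime 2 3)).dvd_of_dvd_mul_right h
    have hle : twoExp (n - 3) + 1 ≤ twoExp (n - 3) :=
      (Nat.Prime.pow_dvd_iff_le_factorization Nat.prime_two (Nat.factorial_ne_zero _)).1 this
    omega

theorem main_alt_three {n : ℕ} (hn : n % 4 = 3) (h7 : 7 ≤ n)
    (P : Sylow 2 (alternatingGroup (Fin (n - 3)))) :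
    (∀ N : Subgroup (alternatingGroup (Fin n)), Group.IsNilpotent N → Nat.card N ≤ 3 * Nat.card P) ∧
    (∃ M : Subgroup (alternatingGroup (Fin n)), Group.IsNilpotent M ∧ Nat.card M = 3 * Nat.card P ∧
      Nonempty (M ≃* (↥(P : Subgroup (alternatingGroup (Fin (n - 3)))) × Multiplicative (ZMod 3)))) ∧
    (∀ N₁ N₂ : Subgroup (alternatingGroup (Fin n)), Group.IsNilpotent N₁ → Group.IsNilpotent N₂ →
      Nat.card N₁ = 3 * Nat.card P → Nat.card N₂ = 3 * Nat.card P →
      ∃ g : alternatingGroup (Fin n), N₂ = N₁.map (MulAut.conj g).toMonoidHom) := by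
  have hP := card_sylow_alt (show 2 ≤ n - 3 by omega) P
  refine ⟨fun N hN => ?_, ?_, fun N₁ N₂ hN₁ hN₂ h₁ h₂ => ?_⟩
  · rcases alt_le N hN with h | h
    · rw [nilBound, if_pos hn, ← hP] at h
      omega
    · have hc : 0 < Nat.card N := Nat.card_pos
      rcases altExc_support n (by omega) with e | e | e | e | e | e <;> omega
  · obtain ⟨m, rfl⟩ : ∃ m, n = m + 3 := ⟨n - 3, by omega⟩
    exact exists_extremal (addThreeAlt m) (addThreeAlt_injective m) P
  · obtain ⟨e, he⟩ : ∃ e, Nat.card P = 2 ^ e := IsPGroup.iff_card.1 P.isPGroup'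
    rw [he, ← pow_succ'] at hP
    have hexp : twoExp (n - 3) = e + 1 := (Nat.pow_right_injective (le_refl 2) hP).symm
    rw [he] at h₁ h₂
    haveI := hN₁
    haveI := hN₂
    have aux : ∀ N : Subgroup (alternatingGroup (Fin n)), Group.IsNilpotent N → Nat.card N = 3 * 2 ^ e →
        ∃ x ∈ N, (x : Perm (Fin n)).IsThreeCycle ∧ ∀ g ∈ N, Commute x g := by
      intro N hN h
      haveI := hN
      haveI : Group.IsNilpotent (N.map (alternatingGroup (Fin n)).subtype) :=
        Group.nilpotent_of_mulEquiv (Subgroup.equivMapOfInjective N _ (alternatingGroup (Fin n)).subtype_injective)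
      obtain ⟨_, ⟨x, hx, rfl⟩, tx, cx⟩ := exists_threeCycle hn (N.map (alternatingGroup (Fin n)).subtype) hexp.le
        ((Subgroup.card_map_of_injective (alternatingGroup (Fin n)).subtype_injective).trans h)
      exact ⟨x, hx, tx, fun g hg => Subtype.ext (cx _ ⟨g, hg, rfl⟩).eq⟩
    obtain ⟨x₁, m₁, t₁, c₁⟩ := aux N₁ hN₁ h₁
    obtain ⟨x₂, m₂, t₂, c₂⟩ := aux N₂ hN₂ h₂
    refine conj_of_centralizer N₁ N₂ h₁ h₂ m₁ m₂ (by rw [← Subgroup.orderOf_coe]; exact t₂.orderOf) c₁ c₂
      (alternatingGroup.isThreeCycle_isConj (by rw [Nat.card_fin]; omega) t₁ t₂) ?_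
    intro h
    have h' : 2 ^ (e + 1 + 1) ∣ (n - 3).factorial * 3 := by
      rw [← alt_centralizer_threeCycle (by omega) t₂, pow_succ']
      exact mul_dvd_mul_left 2 h
    have := (Nat.Coprime.pow_left _ (by norm_num : Nat.Coprime 2 3)).dvd_of_dvd_mul_right h'
    have hle : e + 1 + 1 ≤ twoExp (n - 3) :=
      (Nat.Prime.pow_dvd_iff_le_factorization Nat.prime_two (Nat.factorial_ne_zero _)).1 this
    omega

end CfsgLib.SymSylow.NilPerm
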